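import Mathlib
import Cfsg.Prelude.Def_Local
import Cfsg.Agent.Lib.Perm.Knapp.Form
import Cfsg.Agent.Lib.Perm.Knapp.Res
import Cfsg.Agent.Lib.Perm.Babai
import Cfsg.Agent.Lib.Components.BenderPair
import Cfsg.Agent.Lib.Components.Transport
import Cfsg.Agent.Lib.Components.LocalFStar
import Cfsg.Agent.Lib.Components.Layer
import Cfsg.Agent.Lib.Components.Fitting
import Cfsg.Agent.Lib.Components.ThompsonWielandt

/-!
# Orbital digraphs: kernels on out-neighbours
-/

set_option autoImplicit false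
set_option linter.unusedSectionVars false
set_option linter.style.haveILetI false

namespace Cfsg.Agent.Lib.Perm.Knapp

open Subgroup Equiv Cfsg Cfsg.Agent.Lib.Components.BenderPair MulAction
open scoped commutatorElement

variable {G Ω : Type*} [Group G] [Finite G] [MulAction G Ω] [FaithfulSMul G Ω] [Finite Ω]

/-- The kernel of the stabilizer of `v` on the out-neighbours of `v`. -/
def Kr (G : Type*) [Group G] {Ω : Type*} [MulAction G Ω] (R : Ω → Ω → Prop) (v : Ω) : Subgroup G where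
  carrier := {h | h • v = v ∧ ∀ w, R v w → h • w = w}
  mul_mem' := by
    rintro a b ⟨h1, h2⟩ ⟨h3, h4⟩
    refine ⟨by rw [mul_smul, h3, h1], fun w hw => by rw [mul_smul, h4 w hw, h2 w hw]⟩
  one_mem' := ⟨one_smul _ _, fun _ _ => one_smul _ _⟩
  inv_mem' := by
    rintro a ⟨h1, h2⟩
    refine ⟨by rw [inv_smul_eq_iff, h1], fun w hw => by rw [inv_smul_eq_iff, h2 w hw]⟩

theorem mem_Kr {R : Ω → Ω → Prop} {v : Ω} {h : G} :
    h ∈ Kr G R v ↔ h • v = v ∧ ∀ w, R v w → h • w = w := Iff.rfl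

/-- The reversed relation. -/
abbrev rev (R : Ω → Ω → Prop) : Ω → Ω → Prop := fun v w => R w v

/-- Equivariant families of subgroups. -/
def Equi (Φ : Ω → Subgroup G) : Prop :=
  ∀ (g : G) (v : Ω), Φ (g • v) = (Φ v).map (MulAut.conj g).toMonoidHom

theorem equi_of_mem {Φ : Ω → Subgroup G}
    (h : ∀ (g : G) (v : Ω) (x : G), x ∈ Φ v → g * x * g⁻¹ ∈ Φ (g • v)) : Equi Φ := by
  intro g v
  apply le_antisymm
  · intro x hx
    refine ⟨g⁻¹ * x * g, ?_, by simp [mul_assoc]⟩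
    have := h g⁻¹ (g • v) x hx
    simpa using this
  · rintro _ ⟨x, hx, rfl⟩
    simpa using h g v x hx

theorem conj_mem_Kr {R : Ω → Ω → Prop} (hR : ∀ (h : G) v w, R v w → R (h • v) (h • w))
    (g : G) (v : Ω) (x : G) (hx : x ∈ Kr G R v) : g * x * g⁻¹ ∈ Kr G R (g • v) := by
  obtain ⟨h1, h2⟩ := hx
  refine ⟨by simp [mul_smul, h1], ?_⟩
  intro w hw
  have h3 : R v (g⁻¹ • w) := by
    have := hR g⁻¹ _ _ hw
    simpa using this
  simp [mul_smul, h2 _ h3]

theorem equi_Kr {R : Ω → Ω → Prop} (hR : ∀ (h : G) v w, R v w → R (h • v) (h • w)) :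
    Equi (Kr G R) := equi_of_mem (conj_mem_Kr hR)

theorem mem_of_conj {Φ : Ω → Subgroup G} (h : Equi Φ) {g : G} {v : Ω} {x : G} (hx : x ∈ Φ v) :
    g * x * g⁻¹ ∈ Φ (g • v) := by
  rw [h]
  exact ⟨x, hx, by simp⟩

/-- Stabilizers normalize. -/
theorem stab_le_norm {Φ : Ω → Subgroup G} (h : Equi Φ) (v : Ω) :
    stabilizer G v ≤ normalizer ((Φ v : Subgroup G) : Set G) := by
  intro g hg
  apply Res.mem_norm
  intro x hx
  have := mem_of_conj h (g := g) hx
  rwa [MulAction.mem_stabilizer_iff.mp hg] at this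

theorem Kr_le (R : Ω → Ω → Prop) (v : Ω) : Kr G R v ≤ stabilizer G v := fun _ h => h.1

theorem Kr_le_of {R : Ω → Ω → Prop} {v w : Ω} (h : R v w) : Kr G R v ≤ stabilizer G w :=
  fun _ hx => hx.2 w h

/-- **The trick.** -/
theorem trick (hprim : IsPreprimitive G Ω) {Φ : Ω → Subgroup G} (hΦ : Equi Φ)
    (hle : ∀ v, Φ v ≤ stabilizer G v) {v v' : Ω} (hne : v ≠ v') (heq : Φ v = Φ v') : Φ v = ⊥ := by
  have hall : ∀ y, y ∈ {w | Φ w = Φ v} :=
    Cfsg.Agent.Lib.Perm.Babai.closed_mem (G := G) hprim (P := fun x y => Φ x = Φ y)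
      (by
        intro h x y hxy
        show Φ (h • x) = Φ (h • y)
        rw [hΦ, hΦ, hxy])
      heq hne (T := {w | Φ w = Φ v}) (x := v) rfl
      (fun y z hy hz => by
        show Φ z = Φ v
        rw [← hz]
        exact hy)
  rw [eq_bot_iff]
  intro x hx
  rw [Subgroup.mem_bot]
  apply FaithfulSMul.eq_of_smul_eq_smul (α := Ω)
  intro y
  have h1 : x ∈ Φ y := by
    have : Φ y = Φ v := hall y
    rw [this]
    exact hx
  have := hle y h1
  rw [MulAction.mem_stabilizer_iff] at this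
  rw [this, one_smul]

theorem ly_map (e : G ≃* G) (X : Subgroup G) :
    (ly X).map e.toMonoidHom = ly (X.map e.toMonoidHom) := by
  let e' : ↥X ≃* ↥(X.map e.toMonoidHom) := X.equivMapOfInjective e.toMonoidHom e.injective
  have h := Cfsg.Agent.Lib.Components.Transport.layer_map_equiv e'
  unfold ly
  rw [← h, Subgroup.map_map, Subgroup.map_map]
  rfl

theorem oc_map (p : ℕ) (e : G ≃* G) (X : Subgroup G) :
    (oc p X).map e.toMonoidHom = oc p (X.map e.toMonoidHom) := by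
  let e' : ↥X ≃* ↥(X.map e.toMonoidHom) := X.equivMapOfInjective e.toMonoidHom e.injective
  have h := Cfsg.Agent.Lib.Components.Transport.pCore_map_equiv p e'
  unfold oc
  rw [← h, Subgroup.map_map, Subgroup.map_map]
  rfl

theorem equi_ly {Φ : Ω → Subgroup G} (h : Equi Φ) : Equi (fun v => ly (Φ v)) := by
  intro g v
  show ly (Φ (g • v)) = _
  rw [h, ly_map]

theorem equi_oc {Φ : Ω → Subgroup G} (p : ℕ) (h : Equi Φ) : Equi (fun v => oc p (Φ v)) := by
  intro g v
  show oc p (Φ (g • v)) = _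
  rw [h, oc_map]

theorem exists_mem_ne2 {Λ : Set Ω} (h3 : 3 ≤ Nat.card ↥Λ) (u u' : Ω) : ∃ y ∈ Λ, y ≠ u ∧ y ≠ u' := by
  classical
  by_contra hc
  push Not at hc
  haveI := Fintype.ofFinite ↥Λ
  have hinj : ∀ t : ↥Λ, (t : Ω) = u ∨ (t : Ω) = u' := by
    intro t
    by_cases ht : (t : Ω) = u
    · exact Or.inl ht
    · exact Or.inr (hc t t.2 ht)
  have h1 : Nat.card ↥Λ ≤ Nat.card ↥({u, u'} : Set Ω) := by
    apply Nat.card_le_card_of_injective (fun t : ↥Λ => (⟨(t : Ω), by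
      rcases hinj t with h | h <;> simp [h]⟩ : ↥({u, u'} : Set Ω)))
    intro a b hab
    exact Subtype.ext (congrArg (fun s : ↥({u, u'} : Set Ω) => (s : Ω)) hab)
  have h2 : Nat.card ↥({u, u'} : Set Ω) ≤ 2 := by
    rw [Nat.card_coe_set_eq]
    refine (Set.ncard_insert_le u {u'}).trans ?_
    simp
  omega

theorem exists_mem_of_card {Λ : Set Ω} (h : 1 ≤ Nat.card ↥Λ) : ∃ y, y ∈ Λ := by
  have hp : 0 < Nat.card ↥Λ := h
  obtain ⟨y⟩ := (Nat.card_pos_iff.mp hp).1
  exact ⟨y, y.2⟩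

/-- The assumptions for an orbital relation (without alternating in-action). -/
structure Pre (G : Type*) [Group G] {Ω : Type*} [MulAction G Ω] (R : Ω → Ω → Prop) (d : ℕ) : Prop where
  inv : ∀ (h : G) v w, R v w → R (h • v) (h • w)
  arcT : ∀ v w v' w', R v w → R v' w' → ∃ h : G, h • v = v' ∧ h • w = w'
  d6 : 6 ≤ d
  irr : ∀ v w, R v w → v ≠ w
  cardOut : ∀ v, Nat.card ↥{w | R v w} = d
  cardIn : ∀ v, Nat.card ↥{u | R u v} = d
  altOut : ∀ v, Form3 (stabilizer G v) {w | R v w}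

/-- The assumptions for an orbital relation. -/
structure Loc (G : Type*) [Group G] {Ω : Type*} [MulAction G Ω] (R : Ω → Ω → Prop) (d : ℕ) : Prop
    extends Pre G R d where
  altIn : ∀ v, Form3 (stabilizer G v) {u | R u v}

namespace Pre

variable {R : Ω → Ω → Prop} {d : ℕ}

theorem equi (L : Pre G R d) : Equi (Kr G R) := equi_Kr L.inv

theorem inv' (L : Pre G R d) : ∀ (h : G) v w, rev R v w → rev R (h • v) (h • w) :=
  fun h v w hh => L.inv h w v hh

theorem equi' (L : Pre G R d) : Equi (Kr G (rev R)) := equi_Kr L.inv'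

theorem pres_out (L : Pre G R d) (v : Ω) : Pres (stabilizer G v) {w | R v w} := by
  intro q hq w hw
  have := L.inv q v w hw
  rwa [MulAction.mem_stabilizer_iff.mp hq] at this

theorem pres_in (L : Pre G R d) (v : Ω) : Pres (stabilizer G v) {u | R u v} := by
  intro q hq w hw
  have := L.inv q w v hw
  rwa [MulAction.mem_stabilizer_iff.mp hq] at this

theorem exists_out (L : Pre G R d) (v : Ω) : ∃ w, R v w :=
  exists_mem_of_card (Λ := {w | R v w}) (by rw [L.cardOut]; have := L.d6; omega)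

theorem exists_in (L : Pre G R d) (v : Ω) : ∃ w, R w v :=
  exists_mem_of_card (Λ := {w | R w v}) (by rw [L.cardIn]; have := L.d6; omega)

theorem exists_out_ne2 (L : Pre G R d) (v u u' : Ω) : ∃ w, R v w ∧ w ≠ u ∧ w ≠ u' :=
  exists_mem_ne2 (Λ := {w | R v w}) (by rw [L.cardOut]; have := L.d6; omega) u u'

theorem exists_in_ne2 (L : Pre G R d) (v u u' : Ω) : ∃ w, R w v ∧ w ≠ u ∧ w ≠ u' :=
  exists_mem_ne2 (Λ := {w | R w v}) (by rw [L.cardIn]; have := L.d6; omega) u u'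

theorem pres_T (L : Pre G R d) (a b : Ω) :
    Pres (stabilizer G a ⊓ stabilizer G b) ({w | R a w} \ {b}) := (L.pres_out a).stab b

theorem form3_T (L : Pre G R d) {a b : Ω} (hab : R a b) :
    Form3 (stabilizer G a ⊓ stabilizer G b) ({w | R a w} \ {b}) := (L.altOut a).stab hab

theorem card_T (L : Pre G R d) {a b : Ω} (hab : R a b) :
    Nat.card ↥({w | R a w} \ {b}) = d - 1 := by
  rw [card_set_diff {w | R a w} (a := b) hab, L.cardOut]

theorem fix_mem (L : Pre G R d) {a b : Ω} (hab : R a b) {n : G}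
    (hn : n ∈ stabilizer G a ⊓ stabilizer G b) (hfix : ∀ x ∈ ({w | R a w} \ {b} : Set Ω), n • x = x) :
    n ∈ Kr G R a := by
  obtain ⟨h1, h2⟩ := mem_inf.mp hn
  refine ⟨h1, fun w hw => ?_⟩
  by_cases hwb : w = b
  · rw [hwb]
    exact h2
  · exact hfix w ⟨hw, hwb⟩

theorem Kr_le_T (L : Pre G R d) {a b : Ω} (hab : R a b) :
    Kr G R a ≤ stabilizer G a ⊓ stabilizer G b := le_inf (Kr_le R a) (Kr_le_of hab)

theorem norm_T (L : Pre G R d) (a b : Ω) :
    stabilizer G a ⊓ stabilizer G b ≤ normalizer ((Kr G R a : Subgroup G) : Set G) :=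
  inf_le_left.trans (stab_le_norm L.equi a)

theorem dich_T (L : Pre G R d) {a b : Ω} (hab : R a b) {N : Subgroup G}
    (hN : N ≤ stabilizer G a ⊓ stabilizer G b)
    (hn : stabilizer G a ⊓ stabilizer G b ≤ normalizer (N : Set G)) :
    N ≤ Kr G R a ∨ Form3 N ({w | R a w} \ {b}) := by
  have h5 : 5 ≤ Nat.card ↥({w | R a w} \ {b}) := by
    rw [L.card_T hab]
    have := L.d6
    omega
  rcases dich (L.pres_T a b) (L.form3_T hab) h5 hN hn with h | h
  · left
    intro n hn'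
    exact L.fix_mem hab (hN hn') (h n hn')
  · exact Or.inr h

theorem card_le_T (L : Pre G R d) {a b : Ω} (hab : R a b) {S : Subgroup G}
    (hS : S ≤ stabilizer G a ⊓ stabilizer G b) (hb : S ⊓ Kr G R a = ⊥) :
    Nat.card S ≤ (d - 1).factorial := by
  have h := card_le_mul (Q := S) (K₀ := ⊥) ((L.pres_T a b).mono hS) (by
    intro q
    constructor
    · intro hq
      rw [Subgroup.mem_bot] at hq
      subst hq
      exact ⟨one_mem _, fun x _ => one_smul _ _⟩
    · rintro ⟨h1, h2⟩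
      have : q ∈ S ⊓ Kr G R a := mem_inf.mpr ⟨h1, L.fix_mem hab (hS h1) h2⟩
      rwa [hb] at this)
  rw [L.card_T hab] at h
  simpa using h

theorem card_T_le (L : Pre G R d) {a b : Ω} (hab : R a b) :
    Nat.card ↥(stabilizer G a ⊓ stabilizer G b) ≤ Nat.card (Kr G R a) * (d - 1).factorial := by
  have h := card_le_mul (Q := stabilizer G a ⊓ stabilizer G b) (K₀ := Kr G R a) (L.pres_T a b) (by
    intro q
    constructor
    · intro hq
      exact ⟨L.Kr_le_T hab hq, fun x hx => hq.2 x hx.1⟩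
    · rintro ⟨h1, h2⟩
      exact L.fix_mem hab h1 h2)
  rwa [L.card_T hab] at h

end Pre

theorem Loc.flip {R : Ω → Ω → Prop} {d : ℕ} (L : Loc G R d) : Loc G (rev R) d where
  inv := L.inv'
  arcT := fun v w v' w' h1 h2 => by
    obtain ⟨h, h3, h4⟩ := L.arcT w v w' v' h1 h2
    exact ⟨h, h4, h3⟩
  d6 := L.d6
  irr := fun v w h => (L.irr w v h).symm
  cardOut := L.cardIn
  cardIn := L.cardOut
  altOut := L.altIn
  altIn := L.altOut

/-- A `p`-group cannot induce all three-cycles. -/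
theorem not_form3_pgroup {p : ℕ} (hp : p.Prime) {N : Subgroup G} {Λ : Set Ω} (hP : IsPGroup p N)
    (hpres : Pres N Λ) (hF : Form3 N Λ) (h5 : 5 ≤ Nat.card ↥Λ) : False := by
  classical
  haveI := Fintype.ofFinite ↥Λ
  haveI : Fact p.Prime := ⟨hp⟩
  have h1 := alt_le_range hpres hF
  have h2 : Nat.card (alternatingGroup ↥Λ) ∣ Nat.card (act N Λ hpres).range :=
    Subgroup.card_dvd_of_le h1
  have h3 : Nat.card (act N Λ hpres).range ∣ Nat.card N := Subgroup.card_range_dvd _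
  obtain ⟨k, hk⟩ := IsPGroup.iff_card.mp hP
  rw [card_alt_set Λ (by omega)] at h2
  have h4 : (Nat.card ↥Λ).factorial / 2 ∣ p ^ k := by
    rw [← hk]
    exact h2.trans h3
  have h6 : (5 : ℕ).factorial ∣ (Nat.card ↥Λ).factorial := Nat.factorial_dvd_factorial h5
  obtain ⟨t, ht⟩ := h6
  have h7 : (Nat.card ↥Λ).factorial / 2 = 60 * t := by
    rw [ht]
    have : (5 : ℕ).factorial = 120 := rfl
    rw [this]
    omega
  rw [h7] at h4
  have h8 : (2 : ℕ) ∣ p ^ k := Dvd.dvd.trans ⟨30 * t, by ring⟩ h4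
  have h9 : (3 : ℕ) ∣ p ^ k := Dvd.dvd.trans ⟨20 * t, by ring⟩ h4
  have h10 : (2 : ℕ) = p := (Nat.prime_dvd_prime_iff_eq Nat.prime_two hp).mp (Nat.prime_two.dvd_of_dvd_pow h8)
  have h11 : (3 : ℕ) = p := (Nat.prime_dvd_prime_iff_eq Nat.prime_three hp).mp (Nat.prime_three.dvd_of_dvd_pow h9)
  omega

namespace Loc

variable {R : Ω → Ω → Prop} {d : ℕ}

theorem norm_T' (L : Loc G R d) (a b : Ω) :
    stabilizer G a ⊓ stabilizer G b ≤ normalizer ((Kr G (rev R) b : Subgroup G) : Set G) :=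
  inf_le_right.trans (stab_le_norm L.equi' b)

theorem Kr_le_T' (L : Loc G R d) {a b : Ω} (hab : R a b) :
    Kr G (rev R) b ≤ stabilizer G a ⊓ stabilizer G b := le_inf (Kr_le_of (R := rev R) hab) (Kr_le _ b)

theorem dich_T' (L : Loc G R d) {a b : Ω} (hab : R a b) {N : Subgroup G}
    (hN : N ≤ stabilizer G a ⊓ stabilizer G b)
    (hn : stabilizer G a ⊓ stabilizer G b ≤ normalizer (N : Set G)) :
    N ≤ Kr G (rev R) b ∨ Form3 N ({w | R w b} \ {a}) :=
  L.flip.toPre.dich_T (a := b) (b := a) hab (by rwa [inf_comm]) (by rwa [inf_comm])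

theorem card_le_T' (L : Loc G R d) {a b : Ω} (hab : R a b) {S : Subgroup G}
    (hS : S ≤ stabilizer G a ⊓ stabilizer G b) (hb : S ⊓ Kr G (rev R) b = ⊥) :
    Nat.card S ≤ (d - 1).factorial :=
  L.flip.toPre.card_le_T (a := b) (b := a) hab (by rwa [inf_comm]) hb

theorem oc_le (L : Loc G R d) (p : ℕ) [Fact p.Prime] {a b : Ω} (hab : R a b) :
    oc p (Kr G R a) ≤ oc p (Kr G (rev R) b) := by
  have hN1 : oc p (Kr G R a) ≤ Kr G R a := Cfsg.Agent.Lib.Components.BenderPair.map_subtype_le _ _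
  have hN2 : oc p (Kr G R a) ≤ stabilizer G a ⊓ stabilizer G b := hN1.trans (L.Kr_le_T hab)
  have hn : stabilizer G a ⊓ stabilizer G b ≤ normalizer ((oc p (Kr G R a) : Subgroup G) : Set G) :=
    (L.norm_T a b).trans (normalizer_le_normalizer_map_of_char _ _
      (Cfsg.Agent.Lib.Basic.PCore.pCore_char p _))
  rcases L.dich_T' hab hN2 hn with h | h
  · have hY : Kr G (rev R) b ≤ normalizer ((oc p (Kr G R a) : Subgroup G) : Set G) :=
      (L.Kr_le_T' hab).trans hn
    have h3 := Cfsg.Agent.Lib.Components.LocalFStar.le_map_pCore (p := p) (isPGroup_oc p (Kr G R a)) hY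
    intro x hx
    exact h3 (mem_inf.mpr ⟨hx, h hx⟩)
  · exfalso
    have h5 : 5 ≤ Nat.card ↥({w | R w b} \ {a}) := by
      rw [L.flip.toPre.card_T (a := b) (b := a) hab]
      have := L.d6
      omega
    have hpres : Pres (oc p (Kr G R a)) ({w | R w b} \ {a}) := by
      have := L.flip.toPre.pres_T b a
      refine this.mono ?_
      rw [inf_comm]
      exact hN2
    exact not_form3_pgroup (Fact.out : p.Prime) (isPGroup_oc p (Kr G R a)) hpres h h5

theorem oc_eq (L : Loc G R d) (p : ℕ) [Fact p.Prime] {a b : Ω} (hab : R a b) :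
    oc p (Kr G R a) = oc p (Kr G (rev R) b) :=
  le_antisymm (L.oc_le p hab) (L.flip.oc_le (R := rev R) p (a := b) (b := a) hab)

theorem oc_bot' (L : Loc G R d) (hprim : IsPreprimitive G Ω) (p : ℕ) [Fact p.Prime] (v : Ω) :
    oc p (Kr G (rev R) v) = ⊥ := by
  obtain ⟨a, ha⟩ := L.exists_in v
  obtain ⟨b', hb', hne, -⟩ := L.exists_out_ne2 a v v
  have := trick hprim (Φ := fun c => oc p (Kr G (rev R) c)) (equi_oc p L.equi')
    (fun c => (Cfsg.Agent.Lib.Components.BenderPair.map_subtype_le _ _).trans (Kr_le _ c)) (v := v) (v' := b') hne.symm (by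
      show oc p (Kr G (rev R) v) = oc p (Kr G (rev R) b')
      rw [← L.oc_eq p ha, ← L.oc_eq p hb'])
  exact this

theorem oc_bot (L : Loc G R d) (hprim : IsPreprimitive G Ω) (p : ℕ) [Fact p.Prime] (v : Ω) :
    oc p (Kr G R v) = ⊥ := by
  obtain ⟨c, hc⟩ := L.exists_out v
  rw [L.oc_eq p hc]
  exact L.oc_bot' hprim p c

theorem fi_bot (L : Loc G R d) (hprim : IsPreprimitive G Ω) (v : Ω) : fi (Kr G R v) = ⊥ := by
  by_contra h
  obtain ⟨p, hp, hf, hne⟩ := exists_prime_of_fi_ne_bot h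
  exact hne (L.oc_bot hprim p v)

theorem fi_bot' (L : Loc G R d) (hprim : IsPreprimitive G Ω) (v : Ω) :
    fi (Kr G (rev R) v) = ⊥ := L.flip.fi_bot hprim v

end Loc

/-! ### Components -/

theorem commute_of_mem_centralizer {X : Subgroup G} {x y : G} (hx : x ∈ centralizer (X : Set G))
    (hy : y ∈ X) : x * y = y * x := (mem_centralizer_iff.mp hx y hy).symm

theorem ly_le_of_cent {M₁ M₂ : Subgroup G} (h12 : M₁ ≤ normalizer (M₂ : Set G))
    (h21 : M₂ ≤ normalizer (M₁ : Set G)) (hZ : M₁ ⊓ centralizer (M₂ : Set G) = ⊥) : ly M₁ ≤ M₂ := by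
  rw [Subgroup.map_le_iff_le_comap]
  refine sSup_le ?_
  intro K hK
  rw [← Subgroup.map_le_iff_le_comap]
  by_contra hnot
  have hDn : (M₂.subgroupOf M₁).Normal := Subgroup.normal_subgroupOf_of_le_normalizer h12
  rcases Cfsg.Agent.Lib.Components.Layer.le_or_commutator_eq_bot_of_normal hK hDn with h | h
  · apply hnot
    rintro _ ⟨k, hk, rfl⟩
    exact h hk
  · set K' : Subgroup G := K.map M₁.subtype with hK'
    have hK'1 : K' ≤ M₁ := Cfsg.Agent.Lib.Components.BenderPair.map_subtype_le _ _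
    have hperf : ⁅K', K'⁆ = K' := by
      have : ⁅K, K⁆ = K := Subgroup.isPerfect_iff.mp hK.2.1
      rw [hK', ← Subgroup.map_commutator, this]
    have hcD : ⁅K', M₂⁆ ≤ M₁ ⊓ M₂ := by
      rw [Subgroup.commutator_le]
      intro k hk z hz
      refine mem_inf.mpr ⟨?_, ?_⟩
      · have e : ⁅k, z⁆ = k * (z * k⁻¹ * z⁻¹) := by
          rw [commutatorElement_def]; group
        rw [e]
        exact mul_mem (hK'1 hk) (Res.conj_mem' (h21 hz) (inv_mem (hK'1 hk)))
      · have e : ⁅k, z⁆ = (k * z * k⁻¹) * z⁻¹ := by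
          rw [commutatorElement_def]
        rw [e]
        exact mul_mem (Res.conj_mem' (h12 (hK'1 hk)) hz) (inv_mem hz)
    have hcomm : ⁅⁅K', M₂⁆, K'⁆ = ⊥ := by
      rw [eq_bot_iff, Subgroup.commutator_le]
      intro x hx k hk
      obtain ⟨hx1, hx2⟩ := mem_inf.mp (hcD hx)
      obtain ⟨k', hk', rfl⟩ := hk
      have h3 := (Cfsg.Agent.Lib.Components.Layer.commutator_eq_bot_iff_forall.mp h)
        k' hk' ⟨x, hx1⟩ (Subgroup.mem_subgroupOf.mpr hx2)
      have h4 : (k' : G) * x = x * (k' : G) := congrArg Subtype.val h3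
      rw [Subgroup.mem_bot, commutatorElement_eq_one_iff_mul_comm]
      exact h4.symm
    have hbot := Cfsg.Agent.Lib.Components.Layer.commutator_eq_bot_of_perfect hperf hcomm
    have hle : K' ≤ M₁ ⊓ centralizer (M₂ : Set G) := by
      intro k hk
      refine mem_inf.mpr ⟨hK'1 hk, ?_⟩
      rw [mem_centralizer_iff]
      intro z hz
      have h3 := (Cfsg.Agent.Lib.Components.Layer.commutator_eq_bot_iff_forall.mp hbot) k hk z hz
      exact h3.symm
    rw [hZ] at hle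
    apply hnot
    exact hle.trans bot_le

theorem ly_le_ly_of_le {M₁ M₂ : Subgroup G} (h12 : M₁ ≤ normalizer (M₂ : Set G))
    (h21 : M₂ ≤ normalizer (M₁ : Set G)) (h : ly M₁ ≤ M₂) : ly M₁ ≤ ly M₂ := by
  rw [Subgroup.map_le_iff_le_comap]
  refine sSup_le ?_
  intro K hK
  rw [← Subgroup.map_le_iff_le_comap]
  set K' : Subgroup G := K.map M₁.subtype with hK'
  have hKq : IsQuasisimple ↥K' :=
    Cfsg.Agent.Lib.Components.FStar.isQuasisimple_congr
      (K.equivMapOfInjective M₁.subtype M₁.subtype_injective) hK.2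
  have hK'1 : K' ≤ M₁ := Cfsg.Agent.Lib.Components.BenderPair.map_subtype_le _ _
  have hK'2 : K' ≤ M₂ := by
    refine le_trans ?_ h
    exact Subgroup.map_mono (Cfsg.Agent.Lib.Components.Layer.le_layer hK)
  set D : Subgroup G := M₁ ⊓ M₂ with hD
  have hK'D : K' ≤ D := le_inf hK'1 hK'2
  have hsnM : (K'.subgroupOf M₁).IsSubnormal := by
    have : K'.subgroupOf M₁ = K := Subgroup.comap_map_eq_self_of_injective M₁.subtype_injective K
    rw [this]; exact hK.1
  have hsnD : (K'.subgroupOf D).IsSubnormal := by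
    have h' := hsnM.comap (Subgroup.inclusion (inf_le_left : D ≤ M₁))
    exact h'
  have hDM₂ : M₂ ≤ normalizer (D : Set G) := by
    intro z hz
    apply Res.mem_norm
    intro v hv
    obtain ⟨h1, h2⟩ := mem_inf.mp hv
    exact mem_inf.mpr ⟨Res.conj_mem' (h21 hz) h1, mul_mem (mul_mem hz h2) (inv_mem hz)⟩
  have hsnM₂ : (K'.subgroupOf M₂).IsSubnormal :=
    Cfsg.Agent.Lib.Components.ThompsonWielandt.Sn.trans hK'D inf_le_right hsnD
      (Cfsg.Agent.Lib.Components.ThompsonWielandt.sn_of_le_normalizer hDM₂)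
  have hcomp : IsComponent (K'.subgroupOf M₂) :=
    ⟨hsnM₂, Cfsg.Agent.Lib.Components.FStar.isQuasisimple_congr
      (Subgroup.subgroupOfEquivOfLe hK'2).symm hKq⟩
  have hle := Cfsg.Agent.Lib.Components.Layer.le_layer hcomp
  intro x hx
  exact ⟨⟨x, hK'2 hx⟩, hle (Subgroup.mem_subgroupOf.mpr hx), rfl⟩

theorem eq_bot_of_fi_ly {X : Subgroup G} (hF : fi X = ⊥) (hL : ly X = ⊥) : X = ⊥ := by
  have hfs : fs X = ⊥ := by
    unfold fs generalizedFittingSubgroup
    rw [Subgroup.map_sup]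
    have h1 : (layer ↥X).map X.subtype = ⊥ := hL
    have h2 : (fittingSubgroup ↥X).map X.subtype = ⊥ := hF
    rw [h1, h2, sup_bot_eq]
  have h := Cfsg.Agent.Lib.Components.LocalFStar.inf_centralizer_map_generalizedFitting_le X
  have hfs' : (generalizedFittingSubgroup ↥X).map X.subtype = ⊥ := hfs
  rw [hfs'] at h
  rw [eq_bot_iff]
  intro x hx
  apply h
  refine mem_inf.mpr ⟨hx, ?_⟩
  rw [mem_centralizer_iff]
  intro y hy
  have : y = 1 := by simpa using hy
  simp [this]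

theorem eq_one_of_central {X : Subgroup G} (hF : fi X = ⊥) {x : G} (hx : x ∈ X)
    (hc : x ∈ centralizer (X : Set G)) : x = 1 := by
  have h1 : (center ↥X) ≤ fittingSubgroup ↥X := by
    have hN : Group.IsNilpotent ↥(center ↥X) := by
      letI : CommGroup ↥(center ↥X) := { (inferInstance : Group ↥(center ↥X)) with
        mul_comm := fun a b => Subtype.ext (mem_center_iff.mp a.2 b.1).symm }
      exact CommGroup.isNilpotent
    exact Cfsg.Agent.Lib.Components.Fitting.le_fitting (N := center ↥X) inferInstance hN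
  have h2 : (⟨x, hx⟩ : ↥X) ∈ center ↥X := by
    rw [mem_center_iff]
    intro y
    exact Subtype.ext (mem_centralizer_iff.mp hc y y.2)
  have h3 : x ∈ fi X := ⟨⟨x, hx⟩, h1 h2, rfl⟩
  rw [hF] at h3
  simpa using h3

/-! ### The centralizing part -/

/-- The part of `K a` centralizing `K* b`. -/
def Zz (G : Type*) [Group G] {Ω : Type*} [MulAction G Ω] (R : Ω → Ω → Prop) (a b : Ω) : Subgroup G :=
  Kr G R a ⊓ centralizer ((Kr G (rev R) b : Subgroup G) : Set G)

namespace Loc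

variable {R : Ω → Ω → Prop} {d : ℕ}

theorem Zz_ne_bot_of (L : Loc G R d) {a b a' b' : Ω} (hab : R a b) (hab' : R a' b')
    (h : Zz G R a b ≠ ⊥) : Zz G R a' b' ≠ ⊥ := by
  obtain ⟨x, hx, hx1⟩ := (Subgroup.ne_bot_iff_exists_ne_one ..).mp h |> fun ⟨y, hy⟩ => (⟨y.1, y.2, fun e => hy (Subtype.ext e)⟩ : ∃ x, x ∈ Zz G R a b ∧ x ≠ 1)
  obtain ⟨g, rfl, rfl⟩ := L.arcT a b a' b' hab hab'
  intro hbot
  have : g * x * g⁻¹ ∈ Zz G R (g • a) (g • b) := by
    refine mem_inf.mpr ⟨mem_of_conj L.equi (mem_inf.mp hx).1, ?_⟩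
    rw [mem_centralizer_iff]
    intro y hy
    have hy' : g⁻¹ * y * g ∈ Kr G (rev R) b := by
      have := mem_of_conj L.equi' (g := g⁻¹) hy
      simpa using this
    have h3 := mem_centralizer_iff.mp (mem_inf.mp hx).2 _ hy'
    have e : y = g * (g⁻¹ * y * g) * g⁻¹ := by group
    rw [e]
    calc g * (g⁻¹ * y * g) * g⁻¹ * (g * x * g⁻¹) = g * ((g⁻¹ * y * g) * x) * g⁻¹ := by group
      _ = g * (x * (g⁻¹ * y * g)) * g⁻¹ := by rw [h3]
      _ = _ := by group
  rw [hbot, Subgroup.mem_bot] at this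
  apply hx1
  have h2 : x = g⁻¹ * (g * x * g⁻¹) * g := by group
  rw [h2, this]
  group

theorem Zz_le_T (L : Loc G R d) {a b : Ω} (hab : R a b) :
    Zz G R a b ≤ stabilizer G a ⊓ stabilizer G b := inf_le_left.trans (L.Kr_le_T hab)

theorem norm_Zz (L : Loc G R d) (a b : Ω) :
    stabilizer G a ⊓ stabilizer G b ≤ normalizer ((Zz G R a b : Subgroup G) : Set G) := by
  intro t ht
  apply Res.mem_norm
  intro z hz
  obtain ⟨h1, h2⟩ := mem_inf.mp hz
  refine mem_inf.mpr ⟨Res.conj_mem' (L.norm_T a b ht) h1, ?_⟩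
  rw [mem_centralizer_iff]
  intro y hy
  have hy' : t⁻¹ * y * t ∈ Kr G (rev R) b := by
    have := Res.conj_mem' (L.norm_T' a b (inv_mem ht)) hy
    simpa using this
  have h3 := mem_centralizer_iff.mp h2 _ hy'
  have e : y = t * (t⁻¹ * y * t) * t⁻¹ := by group
  rw [e]
  calc t * (t⁻¹ * y * t) * t⁻¹ * (t * z * t⁻¹) = t * ((t⁻¹ * y * t) * z) * t⁻¹ := by group
    _ = t * (z * (t⁻¹ * y * t)) * t⁻¹ := by rw [h3]
    _ = _ := by group

theorem Zz_inf (L : Loc G R d) (hprim : IsPreprimitive G Ω) (a b : Ω) :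
    Zz G R a b ⊓ Kr G (rev R) b = ⊥ := by
  rw [eq_bot_iff]
  intro x hx
  obtain ⟨h1, h2⟩ := mem_inf.mp hx
  rw [Subgroup.mem_bot]
  exact eq_one_of_central (L.fi_bot' hprim b) h2 (mem_inf.mp h1).2

theorem Z_const_le (L : Loc G R d) (hprim : IsPreprimitive G Ω) {a b u u' : Ω} (hab : R a b)
    (hZ : Zz G R a b ≠ ⊥) (hu : u ∈ ({w | R w b} \ {a} : Set Ω))
    (hu' : u' ∈ ({w | R w b} \ {a} : Set Ω)) :
    Kr G R u ⊓ Kr G (rev R) b ≤ Kr G R u' ⊓ Kr G (rev R) b := by
  rcases L.dich_T' hab (L.Zz_le_T hab) (L.norm_Zz a b) with h | h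
  · exfalso
    apply hZ
    have h1 := L.Zz_inf hprim a b
    rw [inf_eq_left.mpr h] at h1
    exact h1
  · have h3 : 3 ≤ Nat.card ↥({w | R w b} \ {a} : Set Ω) := by
      rw [L.flip.toPre.card_T (a := b) (b := a) hab]
      have := L.d6
      omega
    obtain ⟨δ, hδ, hδu⟩ := h.trans h3 hu hu'
    have hδb : δ • b = b := ((mem_inf.mp (L.Zz_le_T hab hδ)).2 : _)
    intro x hx
    obtain ⟨h1, h2⟩ := mem_inf.mp hx
    refine mem_inf.mpr ⟨?_, h2⟩
    have h4 := mem_of_conj L.equi (g := δ) h1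
    rw [hδu] at h4
    have h5 := mem_centralizer_iff.mp (mem_inf.mp hδ).2 x h2
    have e : δ * x * δ⁻¹ = x := by
      rw [← h5]
      group
    rwa [e] at h4

theorem Z_const (L : Loc G R d) (hprim : IsPreprimitive G Ω)
    (hZ : ∀ a b, R a b → Zz G R a b ≠ ⊥) {b u u' : Ω} (hu : R u b) (hu' : R u' b) :
    Kr G R u ⊓ Kr G (rev R) b = Kr G R u' ⊓ Kr G (rev R) b := by
  obtain ⟨a, ha, h1, h2⟩ := L.exists_in_ne2 b u u'
  apply le_antisymm
  · exact L.Z_const_le hprim ha (hZ a b ha) ⟨hu, fun e => h1 e.symm⟩ ⟨hu', fun e => h2 e.symm⟩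
  · exact L.Z_const_le hprim ha (hZ a b ha) ⟨hu', fun e => h2 e.symm⟩ ⟨hu, fun e => h1 e.symm⟩

end Loc

end Cfsg.Agent.Lib.Perm.Knapp
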