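import Mathlib
import Cfsg.Agent.Lib.Perm.Knapp.Loc

/-!
# The two cases of the Knapp analysis
-/

set_option autoImplicit false
set_option linter.unusedSectionVars false
set_option linter.style.haveILetI false

namespace Cfsg.Agent.Lib.Perm.Knapp

open Subgroup Equiv Cfsg Cfsg.Agent.Lib.Components.BenderPair MulAction

variable {G Ω : Type*} [Group G] [Finite G] [MulAction G Ω] [FaithfulSMul G Ω] [Finite Ω]

theorem fact_lt {d : ℕ} (hd : 6 ≤ d) : (d - 1).factorial < d.factorial / 2 := by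
  have h1 : d.factorial = d * (d - 1).factorial := (Nat.mul_factorial_pred (by omega)).symm
  have hpos : 0 < (d - 1).factorial := Nat.factorial_pos _
  have h2 : 3 * (d - 1).factorial ≤ d * (d - 1).factorial / 2 :=
    (Nat.le_div_iff_mul_le (by norm_num)).mpr (by nlinarith)
  rw [h1]
  exact lt_of_lt_of_le (by omega) h2

/-- Elements acting evenly can be realized in a subgroup inducing all three-cycles. -/
theorem exists_same_action {N Q : Subgroup G} {Λ : Set Ω} [Fintype ↥Λ] [DecidableEq ↥Λ]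
    (hpN : Pres N Λ) (hF : Form3 N Λ)
    (hq : Pres Q Λ) (q : ↥Q) (hq' : act Q Λ hq q ∈ alternatingGroup ↥Λ) :
    ∃ n ∈ N, ∀ x ∈ Λ, n • x = (q : G) • x := by
  obtain ⟨n, hn⟩ := alt_le_range hpN hF hq'
  refine ⟨n, n.2, fun x hx => ?_⟩
  have := congrArg (fun σ : Perm ↥Λ => ((σ ⟨x, hx⟩ : ↥Λ) : Ω)) hn
  exact this

theorem card_ge_of_form3 {Q : Subgroup G} {Λ : Set Ω} (hp : Pres Q Λ) (hF : Form3 Q Λ)
    (h2 : 2 ≤ Nat.card ↥Λ) : (Nat.card ↥Λ).factorial / 2 ≤ Nat.card Q := by
  classical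
  haveI := Fintype.ofFinite ↥Λ
  rw [← card_alt_set Λ h2]
  refine (Subgroup.card_le_of_le (alt_le_range hp hF)).trans ?_
  exact Nat.card_le_card_of_surjective _ (act Q Λ hp).rangeRestrict_surjective

namespace Pre

variable {R : Ω → Ω → Prop} {d : ℕ}

/-- The in-action is alternating too. -/
theorem altIn (L : Pre G R d) (a : Ω) : Form3 (stabilizer G a) {u | R u a} := by
  classical
  obtain ⟨x, hx⟩ := L.exists_in a
  obtain ⟨b, hb⟩ := L.exists_out a
  obtain ⟨g, hg1, hg2⟩ := L.arcT x a a b hx hb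
  set Λ : Set Ω := {w | R a w} with hΛ
  haveI := Fintype.ofFinite ↥Λ
  have h6 := L.d6
  have hcard : Nat.card ↥Λ = d := L.cardOut a
  have h5 : 5 ≤ Nat.card ↥Λ := by omega
  have h2 : 2 ≤ Nat.card ↥Λ := by omega
  have hp : Pres (stabilizer G a) Λ := L.pres_out a
  let f := act (stabilizer G a) Λ hp
  let A₀ : Subgroup G := ((alternatingGroup ↥Λ).comap f).map (stabilizer G a).subtype
  have hA₀ : A₀ ≤ stabilizer G a := Cfsg.Agent.Lib.Components.BenderPair.map_subtype_le _ _
  have hpA : Pres A₀ Λ := hp.mono hA₀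
  have hKmem : ∀ q : G, q ∈ Kr G R a ↔ q ∈ stabilizer G a ∧ ∀ x ∈ Λ, q • x = x :=
    fun q => ⟨fun h => ⟨h.1, h.2⟩, fun h => ⟨h.1, h.2⟩⟩
  have hKA : Kr G R a ≤ A₀ := by
    intro k hk
    refine ⟨⟨k, hk.1⟩, ?_, rfl⟩
    have : f ⟨k, hk.1⟩ = 1 := by
      ext w
      exact hk.2 w w.2
    show f ⟨k, hk.1⟩ ∈ alternatingGroup ↥Λ
    rw [this]
    exact one_mem _
  have hrange : (act A₀ Λ hpA).range = alternatingGroup ↥Λ := by
    apply le_antisymm
    · rintro _ ⟨⟨y, ⟨⟨y', hy'⟩, hy1, rfl⟩⟩, rfl⟩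
      have : act A₀ Λ hpA ⟨_, ⟨⟨y', hy'⟩, hy1, rfl⟩⟩ = f ⟨y', hy'⟩ := by
        ext w
        rfl
      rw [this]
      exact hy1
    · intro σ hσ
      obtain ⟨q, hq⟩ := alt_le_range hp (L.altOut a) hσ
      have hqA : (q : G) ∈ A₀ := ⟨q, by
        show f q ∈ alternatingGroup ↥Λ
        have : f q = σ := hq
        rw [this]
        exact hσ, rfl⟩
      refine ⟨⟨q, hqA⟩, ?_⟩
      rw [← hq]
      ext w
      rfl
  have hFA : Form3 A₀ Λ := form3_of_alt_le_range hpA (by rw [hrange])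
  have hcover : ∀ N : Subgroup G, Form3 N Λ → N ≤ stabilizer G a → A₀ ≤ N ⊔ Kr G R a := by
    intro N hN hNa y hy
    obtain ⟨⟨y', hy'⟩, hy1, rfl⟩ := hy
    obtain ⟨n, hn, hnx⟩ := exists_same_action (hp.mono hNa) hN hp ⟨y', hy'⟩ hy1
    have h3 : n⁻¹ * y' ∈ Kr G R a := by
      rw [hKmem]
      refine ⟨mul_mem (inv_mem (hNa hn)) hy', fun w hw => ?_⟩
      rw [mul_smul, inv_smul_eq_iff]
      exact (hnx w hw).symm
    have e : y' = n * (n⁻¹ * y') := by group
    show y' ∈ N ⊔ Kr G R a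
    rw [e]
    exact mul_mem ((le_sup_left : N ≤ N ⊔ Kr G R a) hn) ((le_sup_right : _ ≤ N ⊔ Kr G R a) h3)
  have hKA' : ∀ q : G, q ∈ Kr G R a ↔ q ∈ A₀ ∧ ∀ x ∈ Λ, q • x = x := fun q =>
    ⟨fun h => ⟨hKA h, h.2⟩, fun h => ⟨h.1 |> fun h1 => (hA₀ h1), h.2⟩⟩
  have hBad : Res.Bad (d.factorial / 2) A₀ (Kr G R a) := by
    refine ⟨hKA, hA₀.trans (stab_le_norm L.equi a), ?_, ?_⟩
    · rw [card_eq_mul hpA hKA', hrange, card_alt_set Λ h2, hcard, mul_comm]
    · intro C hC1 hC2 hC3
      rcases dich hpA hFA h5 hC2 hC3 with h | h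
      · left
        refine le_antisymm ?_ hC1
        intro c hc
        exact (hKA' c).mpr ⟨hC2 hc, h c hc⟩
      · right
        refine le_antisymm hC2 ?_
        have h3 := hcover C h (hC2.trans hA₀)
        rwa [sup_eq_left.mpr hC1] at h3
  have hn : 2 ≤ d.factorial / 2 := by
    have := fact_lt h6
    have h7 : 0 < (d - 1).factorial := Nat.factorial_pos _
    have h8 : 2 ≤ (d-1).factorial := by
      have : (3 : ℕ).factorial ≤ (d - 1).factorial := Nat.factorial_le (by omega)
      have h9 : (3 : ℕ).factorial = 6 := rfl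
      omega
    omega
  have hb : d.factorial / 2 * Nat.card (Kr G (rev R) a) ≤ Nat.card (stabilizer G a) := by
    by_contra hc
    push Not at hc
    refine Res.main_count hn (H := stabilizer G a) (K := Kr G R a) (K' := Kr G (rev R) a)
      (T := stabilizer G a ⊓ stabilizer G b) (T' := stabilizer G x ⊓ stabilizer G a)
      (A₀ := A₀) g (L.Kr_le_T hb) inf_le_left (stab_le_norm L.equi a)
      (le_inf (Kr_le_of (R := rev R) hx) (Kr_le _ a)) inf_le_right (stab_le_norm L.equi' a) ?_ ?_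
      hBad hA₀ ?_ hc
    · rw [Subgroup.map_inf _ _ _ (MulAut.conj g).injective,
        ← MulAction.stabilizer_smul_eq_stabilizer_map_conj,
        ← MulAction.stabilizer_smul_eq_stabilizer_map_conj, hg1, hg2]
    · have h3 := L.card_T_le hb
      have h4 := fact_lt h6
      have hpos : 0 < Nat.card (Kr G R a) := Nat.card_pos
      calc _ ≤ _ := h3
        _ < Nat.card (Kr G R a) * (d.factorial / 2) := Nat.mul_lt_mul_of_pos_left h4 hpos
        _ = _ := mul_comm _ _
    · intro N hN hNn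
      rcases dich hp (L.altOut a) h5 hN hNn with h | h
      · left
        intro n hn'
        exact (hKmem n).mpr ⟨hN hn', h n hn'⟩
      · right
        exact hcover N h hN
  refine form3_of_card (K₀ := Kr G (rev R) a) (L.pres_in a) (by rw [L.cardIn]; omega) ?_ ?_
  · intro q
    exact ⟨fun h => ⟨h.1, h.2⟩, fun h => ⟨h.1, h.2⟩⟩
  · rw [L.cardIn, mul_comm]
    exact hb

/-- Upgrade. -/
theorem toLoc (L : Pre G R d) : Loc G R d := { L with altIn := L.altIn }

end Pre

namespace Loc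

variable {R : Ω → Ω → Prop} {d : ℕ}

theorem le_imp_le (L : Loc G R d) (a : Ω) (h : Kr G R a ≤ Kr G (rev R) a) :
    Kr G (rev R) a ≤ Kr G R a := by
  classical
  have h6 := L.d6
  set Λ : Set Ω := {w | R a w} with hΛ
  haveI := Fintype.ofFinite ↥Λ
  have hcard : Nat.card ↥Λ = d := L.cardOut a
  have h5 : 5 ≤ Nat.card ↥Λ := by omega
  have hK' : Kr G (rev R) a ≤ stabilizer G a := Kr_le _ a
  have hp : Pres (stabilizer G a) Λ := L.pres_out a
  rcases dich hp (L.altOut a) h5 hK' (stab_le_norm L.equi' a) with h1 | h1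
  · intro n hn
    exact ⟨hK' hn, fun w hw => h1 n hn w hw⟩
  · exfalso
    obtain ⟨x, hx⟩ := L.exists_in a
    obtain ⟨y, hy, hyx, -⟩ := L.exists_in_ne2 a x x
    obtain ⟨z, hz, hzx, hzy⟩ := L.exists_in_ne2 a x y
    obtain ⟨q, hq, hq1, hq2, hq3, -⟩ := L.altIn a x hx y hy z hz hyx.symm hzy.symm hzx.symm
    let q' : ↥(stabilizer G a) := ⟨q * q, mul_mem hq hq⟩
    have hs : act (stabilizer G a) Λ hp q' ∈ alternatingGroup ↥Λ := by
      rw [Equiv.Perm.mem_alternatingGroup]
      have : q' = ⟨q, hq⟩ * ⟨q, hq⟩ := rfl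
      rw [this, map_mul, map_mul]
      exact Int.units_mul_self _
    obtain ⟨n, hn, hnx⟩ := exists_same_action (hp.mono hK') h1 hp q' hs
    have h3 : n⁻¹ * (q * q) ∈ Kr G R a := by
      refine ⟨?_, fun w hw => ?_⟩
      · have h4 : (n⁻¹ * (q * q)) ∈ stabilizer G a := mul_mem (inv_mem (hK' hn)) (mul_mem hq hq)
        exact h4
      · rw [mul_smul, inv_smul_eq_iff]
        exact (hnx w hw).symm
    have h4 : q * q ∈ Kr G (rev R) a := by
      have e : q * q = n * (n⁻¹ * (q * q)) := by group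
      rw [e]
      exact mul_mem hn (h h3)
    have h5 := h4.2 x hx
    rw [mul_smul, hq1, hq2] at h5
    exact hzx h5

theorem conj_le {a v : Ω} (L : Loc G R d) (h : G) (hv : h • a = v)
    (hle : Kr G R v ≤ Kr G (rev R) v) : Kr G R a ≤ Kr G (rev R) a := by
  subst hv
  intro x hx
  have h1 := hle (mem_of_conj L.equi (g := h) hx)
  have h2 := mem_of_conj L.equi' (g := h⁻¹) h1
  rw [inv_smul_smul] at h2
  have e : h⁻¹ * (h * x * h⁻¹) * (h⁻¹)⁻¹ = x := by group
  rwa [e] at h2

theorem conj_le' {a v : Ω} (L : Loc G R d) (h : G) (hv : h • a = v)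
    (hle : Kr G (rev R) v ≤ Kr G R v) : Kr G (rev R) a ≤ Kr G R a := by
  subst hv
  intro x hx
  have h1 := hle (mem_of_conj L.equi' (g := h) hx)
  have h2 := mem_of_conj L.equi (g := h⁻¹) h1
  rw [inv_smul_smul] at h2
  have e : h⁻¹ * (h * x * h⁻¹) * (h⁻¹)⁻¹ = x := by group
  rwa [e] at h2

theorem exists_smul (L : Loc G R d) (a v : Ω) : ∃ h : G, h • a = v := by
  obtain ⟨b, hb⟩ := L.exists_out a
  obtain ⟨c, hc⟩ := L.exists_out v
  obtain ⟨h, h1, -⟩ := L.arcT a b v c hb hc
  exact ⟨h, h1⟩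

/-- The main dichotomy: either the two kernels coincide, or each is big on the other side. -/
theorem main_dich (L : Loc G R d) (a : Ω) :
    (∀ v, Kr G (rev R) v = Kr G R v) ∨
      (∀ v, Form3 (Kr G R v) {u | R u v} ∧ Form3 (Kr G (rev R) v) {w | R v w}) := by
  by_cases hc : Kr G R a ≤ Kr G (rev R) a ∨ Kr G (rev R) a ≤ Kr G R a
  · left
    have h1 : Kr G (rev R) a = Kr G R a := by
      rcases hc with h | h
      · exact le_antisymm (L.le_imp_le a h) h
      · exact le_antisymm h (L.flip.le_imp_le a h)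
    intro v
    obtain ⟨h, rfl⟩ := L.exists_smul a v
    rw [L.equi, L.equi', h1]
  · right
    push Not at hc
    intro v
    obtain ⟨h, hv⟩ := L.exists_smul a v
    have h6 := L.d6
    constructor
    · have hcard : Nat.card ↥{u | R u v} = d := L.cardIn v
      rcases dich (L.pres_in v) (L.altIn v) (by rw [hcard]; omega) (Kr_le R v)
        (stab_le_norm L.equi v) with h1 | h1
      · exfalso
        refine hc.1 (L.conj_le h hv ?_)
        intro n hn
        exact ⟨hn.1, fun w hw => h1 n hn w hw⟩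
      · exact h1
    · have hcard : Nat.card ↥{u | R v u} = d := L.cardOut v
      rcases dich (L.pres_out v) (L.altOut v) (by rw [hcard]; omega) (Kr_le (rev R) v)
        (stab_le_norm L.equi' v) with h1 | h1
      · exfalso
        refine hc.2 (L.conj_le' h hv ?_)
        intro n hn
        exact ⟨hn.1, fun w hw => h1 n hn w hw⟩
      · exact h1

theorem norm12 (L : Loc G R d) {a b : Ω} (hab : R a b) :
    Kr G R a ≤ normalizer ((Kr G (rev R) b : Subgroup G) : Set G) :=
  (L.Kr_le_T hab).trans (L.norm_T' a b)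

theorem norm21 (L : Loc G R d) {a b : Ω} (hab : R a b) :
    Kr G (rev R) b ≤ normalizer ((Kr G R a : Subgroup G) : Set G) :=
  (L.Kr_le_T' hab).trans (L.norm_T a b)

/-- The middle subgroup. -/
def Mm (G : Type*) [Group G] {Ω : Type*} [MulAction G Ω] (R : Ω → Ω → Prop) (b : Ω) : Subgroup G :=
  Kr G (rev R) b ⊓ ⨅ (u : Ω) (_ : R u b), Kr G R u

theorem mem_Mm {b : Ω} {x : G} : x ∈ Mm G R b ↔ x ∈ Kr G (rev R) b ∧ ∀ u, R u b → x ∈ Kr G R u := by
  simp [Mm, mem_inf, mem_iInf]

/-- Both centralizing parts nontrivial: the intersection is trivial. -/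
theorem inf_bot_of_Z (L : Loc G R d) (hprim : IsPreprimitive G Ω)
    (hZ : ∀ a b, R a b → Zz G R a b ≠ ⊥) (hZ' : ∀ a b, R a b → Zz G (rev R) b a ≠ ⊥)
    {a b : Ω} (hab : R a b) : Kr G R a ⊓ Kr G (rev R) b = ⊥ := by
  have hc1 := fun {b u u' : Ω} (hu : R u b) (hu' : R u' b) => L.Z_const hprim hZ hu hu'
  have hc2 := fun {a u u' : Ω} (hu : R a u) (hu' : R a u') =>
    L.flip.Z_const hprim (fun a b h => hZ' b a h) (b := a) (u := u) (u' := u') hu hu'
  have hM : ∀ {a b : Ω}, R a b → Mm G R b = Kr G R a ⊓ Kr G (rev R) b := by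
    intro a b hab
    ext x
    rw [mem_Mm]
    constructor
    · rintro ⟨h1, h2⟩
      exact mem_inf.mpr ⟨h2 a hab, h1⟩
    · intro h
      obtain ⟨h1, h2⟩ := mem_inf.mp h
      refine ⟨h2, fun u hu => ?_⟩
      have : x ∈ Kr G R u ⊓ Kr G (rev R) b := by
        rw [hc1 hu hab]
        exact h
      exact (mem_inf.mp this).1
  have hequi : Equi (Mm G R) := by
    apply equi_of_mem
    intro g v x hx
    rw [mem_Mm] at hx ⊢
    refine ⟨mem_of_conj L.equi' hx.1, fun u hu => ?_⟩
    have hu' : R (g⁻¹ • u) v := by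
      have := L.inv g⁻¹ _ _ hu
      simpa using this
    have := mem_of_conj L.equi (g := g) (hx.2 _ hu')
    simpa using this
  obtain ⟨b', hb', hne, -⟩ := L.exists_out_ne2 a b b
  have h := trick hprim hequi (fun v x hx => by
    have := ((mem_Mm (R := R)).mp hx).1
    exact Kr_le _ v this) (v := b) (v' := b') hne.symm (by
      rw [hM hab, hM hb', inf_comm, inf_comm (Kr G R a)]
      exact hc2 hab hb')
  rwa [hM hab] at h

/-- If the layers of the two kernels coincide, the kernels are trivial. -/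
theorem bot_of_ly_eq (L : Loc G R d) (hprim : IsPreprimitive G Ω)
    (hly : ∀ a b, R a b → ly (Kr G R a) = ly (Kr G (rev R) b)) (a : Ω) : Kr G R a = ⊥ := by
  obtain ⟨b, hb⟩ := L.exists_out a
  obtain ⟨b', hb', hne, -⟩ := L.exists_out_ne2 a b b
  have h := trick hprim (equi_ly L.equi') (fun v =>
    (Cfsg.Agent.Lib.Components.BenderPair.map_subtype_le _ _).trans (Kr_le _ v))
    (v := b) (v' := b') hne.symm (by
      show ly (Kr G (rev R) b) = ly (Kr G (rev R) b')
      rw [← hly a b hb, ← hly a b' hb'])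
  have h' : ly (Kr G (rev R) b) = ⊥ := h
  rw [← hly a b hb] at h'
  exact eq_bot_of_fi_ly (L.fi_bot hprim a) h'

/-- **Case A.** -/
theorem caseA (L : Loc G R d) (hprim : IsPreprimitive G Ω) (hKK : ∀ v, Kr G (rev R) v = Kr G R v)
    (hne : ∀ v, Kr G R v ≠ ⊥) {a b : Ω} (hab : R a b) : Kr G R a ⊓ Kr G R b = ⊥ := by
  have hcardly : ∀ {u v : Ω}, Nat.card ↥(ly (Kr G R u)) = Nat.card ↥(ly (Kr G R v)) := by
    intro u v
    obtain ⟨h, rfl⟩ := L.exists_smul u v
    have h1 := equi_ly L.equi h u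
    show Nat.card ↥(ly (Kr G R u)) = Nat.card ↥(ly (Kr G R (h • u)))
    have h2 : ly (Kr G R (h • u)) = (ly (Kr G R u)).map (MulAut.conj h).toMonoidHom := h1
    rw [h2]
    exact Nat.card_congr ((ly (Kr G R u)).equivMapOfInjective _ (MulAut.conj h).injective).toEquiv
  have hZ : ∀ a b, R a b → Zz G R a b ≠ ⊥ := by
    intro a b hab hbot
    have hall : ∀ a' b', R a' b' → Zz G R a' b' = ⊥ := by
      intro a' b' hab'
      by_contra hc
      exact L.Zz_ne_bot_of hab' hab hc hbot
    apply hne a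
    apply L.bot_of_ly_eq hprim
    intro a' b' hab'
    have h1 := ly_le_of_cent (L.norm12 hab') (L.norm21 hab') (hall a' b' hab')
    have h2 := ly_le_ly_of_le (L.norm12 hab') (L.norm21 hab') h1
    apply Subgroup.eq_of_le_of_card_ge h2
    rw [hKK, hcardly (u := b') (v := a')]
  have hZ' : ∀ a b, R a b → Zz G (rev R) b a ≠ ⊥ := by
    intro a b hab hbot
    have hall : ∀ a' b', R a' b' → Zz G (rev R) b' a' = ⊥ := by
      intro a' b' hab'
      by_contra hc
      exact L.flip.Zz_ne_bot_of (R := rev R) (a := b') (b := a') (a' := b) (b' := a) hab' hab hc hbot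
    apply hne a
    apply L.bot_of_ly_eq hprim
    intro a' b' hab'
    have h1 := ly_le_of_cent (L.norm21 hab') (L.norm12 hab') (hall a' b' hab')
    have h2 := ly_le_ly_of_le (L.norm21 hab') (L.norm12 hab') h1
    refine (Subgroup.eq_of_le_of_card_ge h2 ?_).symm
    rw [hKK, hcardly (u := b') (v := a')]
  have := L.inf_bot_of_Z hprim hZ hZ' hab
  rwa [hKK] at this

/-- Walking a big simple subgroup of a kernel around the digraph. -/
theorem walk (L : Loc G R d) (hprim : IsPreprimitive G Ω) {S : Subgroup G} (hS : IsSimpleGroup ↥S)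
    (hcard : (d - 1).factorial < Nat.card S) {b : Ω} (hSb : S ≤ Kr G R b) : False := by
  have walk1 : ∀ {u c : Ω}, S ≤ Kr G R u → R u c → S ≤ Kr G (rev R) c := by
    intro u c hu huc
    have hn : (((Kr G (rev R) c).subgroupOf S)).Normal :=
      Subgroup.normal_subgroupOf_of_le_normalizer (hu.trans (L.norm12 huc))
    rcases hS.eq_bot_or_eq_top_of_normal _ hn with h | h
    · exfalso
      have hb : S ⊓ Kr G (rev R) c = ⊥ := by
        rw [eq_bot_iff]
        intro x hx
        obtain ⟨h1, h2⟩ := mem_inf.mp hx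
        have : (⟨x, h1⟩ : ↥S) ∈ (Kr G (rev R) c).subgroupOf S := h2
        rw [h, Subgroup.mem_bot] at this
        simpa using congrArg Subtype.val this
      have := L.card_le_T' huc (hu.trans (L.Kr_le_T huc)) hb
      omega
    · intro x hx
      have : (⟨x, hx⟩ : ↥S) ∈ (Kr G (rev R) c).subgroupOf S := by
        rw [h]
        trivial
      exact this
  have walk2 : ∀ {u c : Ω}, S ≤ Kr G (rev R) c → R u c → S ≤ Kr G R u := by
    intro u c hu huc
    have hn : (((Kr G R u).subgroupOf S)).Normal :=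
      Subgroup.normal_subgroupOf_of_le_normalizer (hu.trans (L.norm21 huc))
    rcases hS.eq_bot_or_eq_top_of_normal _ hn with h | h
    · exfalso
      have hb : S ⊓ Kr G R u = ⊥ := by
        rw [eq_bot_iff]
        intro x hx
        obtain ⟨h1, h2⟩ := mem_inf.mp hx
        have : (⟨x, h1⟩ : ↥S) ∈ (Kr G R u).subgroupOf S := h2
        rw [h, Subgroup.mem_bot] at this
        simpa using congrArg Subtype.val this
      have := L.card_le_T huc (hu.trans (L.Kr_le_T' huc)) hb
      omega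
    · intro x hx
      have : (⟨x, hx⟩ : ↥S) ∈ (Kr G R u).subgroupOf S := by
        rw [h]
        trivial
      exact this
  obtain ⟨c₀, hc₀⟩ := L.exists_out b
  obtain ⟨c₁, hc₁, hne, -⟩ := L.exists_out_ne2 b c₀ c₀
  have hall : ∀ y, y ∈ {c | S ≤ Kr G (rev R) c} :=
    Cfsg.Agent.Lib.Perm.Babai.closed_mem (G := G) hprim (P := fun c c' => ∃ u, R u c ∧ R u c')
      (by
        rintro h x y ⟨u, h1, h2⟩
        exact ⟨h • u, L.inv h _ _ h1, L.inv h _ _ h2⟩)
      (a := c₀) (b := c₁) ⟨b, hc₀, hc₁⟩ hne.symm (T := {c | S ≤ Kr G (rev R) c}) (x := c₀)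
      (walk1 hSb hc₀)
      (by
        rintro y z hy ⟨u, h1, h2⟩
        exact walk1 (walk2 hy h1) h2)
  obtain ⟨⟨x, hx⟩, ⟨y, hy⟩, hxy⟩ := hS.exists_pair_ne
  have hone : ∀ s ∈ S, s = 1 := by
    intro s hs
    apply FaithfulSMul.eq_of_smul_eq_smul (α := Ω)
    intro w
    rw [one_smul]
    exact (hall w hs).1
  apply hxy
  exact Subtype.ext ((hone x hx).trans (hone y hy).symm)

/-- In case B, the centralizing part is trivial. -/
theorem Z_bot (L : Loc G R d) (hprim : IsPreprimitive G Ω)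
    (hB : ∀ v, Form3 (Kr G (rev R) v) {w | R v w}) {a b : Ω} (hab : R a b) : Zz G R a b = ⊥ := by
  classical
  by_contra hne
  have h6 := L.d6
  have hZT := L.Zz_le_T hab
  have hcardle : Nat.card (Zz G R a b) ≤ (d - 1).factorial := L.card_le_T' hab hZT (L.Zz_inf hprim a b)
  have hfl := fact_lt h6
  have hcard : Nat.card ↥{w | R b w} = d := L.cardOut b
  have hpT : Pres (stabilizer G a ⊓ stabilizer G b) {w | R b w} := (L.pres_out b).mono inf_le_right
  have hFT : Form3 (stabilizer G a ⊓ stabilizer G b) {w | R b w} := (hB b).mono (L.Kr_le_T' hab)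
  have hZb : Zz G R a b ≤ Kr G R b := by
    rcases dich hpT hFT (by rw [hcard]; omega) hZT (L.norm_Zz a b) with h | h
    · intro z hz
      exact ⟨(mem_inf.mp (hZT hz)).2, fun w hw => h z hz w hw⟩
    · exfalso
      have := card_ge_of_form3 (hpT.mono hZT) h (by rw [hcard]; omega)
      rw [hcard] at this
      omega
  have hZbb : Zz G R a b ≤ Zz G R b b := fun z hz => mem_inf.mpr ⟨hZb hz, (mem_inf.mp hz).2⟩
  have hne' : Zz G R b b ≠ ⊥ := fun h => hne (by rw [eq_bot_iff, ← h]; exact hZbb)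
  have hle : Zz G R b b ≤ stabilizer G b := inf_le_left.trans (Kr_le R b)
  have hnorm : stabilizer G b ≤ normalizer ((Zz G R b b : Subgroup G) : Set G) := by
    have := L.norm_Zz b b
    rwa [inf_idem] at this
  have hinf := L.Zz_inf hprim b b
  have hcard' : Nat.card ↥{u | R u b} = d := L.cardIn b
  have hp := (L.pres_in b).mono hle
  rcases dich (L.pres_in b) (L.altIn b) (by rw [hcard']; omega) hle hnorm with h | h
  · exfalso
    apply hne'
    have h3 : Zz G R b b ≤ Kr G (rev R) b := fun z hz => ⟨hle hz, fun w hw => h z hz w hw⟩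
    rwa [inf_eq_left.mpr h3] at hinf
  · -- the alternating part
    haveI := Fintype.ofFinite ↥{u | R u b}
    set Λ : Set Ω := {u | R u b} with hΛ
    have hf : Function.Injective (act (Zz G R b b) Λ hp) := by
      rw [injective_iff_map_eq_one]
      rintro ⟨z, hz⟩ hz1
      have h3 : z ∈ Zz G R b b ⊓ Kr G (rev R) b := by
        refine mem_inf.mpr ⟨hz, hle hz, fun w hw => ?_⟩
        have := congrArg (fun σ : Perm ↥Λ => ((σ ⟨w, hw⟩ : ↥Λ) : Ω)) hz1
        exact this
      rw [hinf, Subgroup.mem_bot] at h3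
      exact Subtype.ext h3
    let A : Subgroup ↥(Zz G R b b) := (alternatingGroup ↥Λ).comap (act (Zz G R b b) Λ hp)
    let φ : ↥A →* alternatingGroup ↥Λ :=
      { toFun := fun x => ⟨act (Zz G R b b) Λ hp x, x.2⟩
        map_one' := by
          apply Subtype.ext
          simp
        map_mul' := by
          intro x y
          apply Subtype.ext
          simp }
    have hφ : Function.Bijective φ := by
      constructor
      · intro x y hxy
        have := congrArg Subtype.val hxy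
        exact Subtype.ext (hf this)
      · rintro ⟨σ, hσ⟩
        obtain ⟨z, hz⟩ := alt_le_range hp h hσ
        refine ⟨⟨z, ?_⟩, Subtype.ext hz⟩
        show act (Zz G R b b) Λ hp z ∈ alternatingGroup ↥Λ
        rw [hz]
        exact hσ
    let e1 : ↥A ≃* alternatingGroup ↥Λ := MulEquiv.ofBijective φ hφ
    let S : Subgroup G := A.map (Zz G R b b).subtype
    let e2 : ↥A ≃* ↥S := A.equivMapOfInjective _ (Zz G R b b).subtype_injective
    have hS : IsSimpleGroup ↥S := by
      have hs : IsSimpleGroup (alternatingGroup ↥Λ) :=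
        alternatingGroup.isSimpleGroup (by rw [hcard']; omega)
      exact MulEquiv.isSimpleGroup (e2.symm.trans e1)
    have hcS : Nat.card S = d.factorial / 2 := by
      rw [← Nat.card_congr e2.toEquiv, Nat.card_congr e1.toEquiv, card_alt_set Λ (by rw [hcard']; omega),
        hcard']
    have hSle : S ≤ Kr G R b := by
      rintro _ ⟨x, -, rfl⟩
      exact (mem_inf.mp x.2).1
    exact L.walk hprim hS (by rw [hcS]; exact hfl) hSle

/-- **Case B is impossible.** -/
theorem caseB (L : Loc G R d) (hprim : IsPreprimitive G Ω)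
    (hB : ∀ v, Form3 (Kr G R v) {u | R u v} ∧ Form3 (Kr G (rev R) v) {w | R v w}) (a : Ω) : False := by
  have hbot : Kr G R a = ⊥ := by
    apply L.bot_of_ly_eq hprim
    intro a' b' hab'
    have hZ := L.Z_bot hprim (fun v => (hB v).2) hab'
    have hZ' : Zz G (rev R) b' a' = ⊥ :=
      L.flip.Z_bot (R := rev R) hprim (fun v => (hB v).1) (a := b') (b := a') hab'
    have h1 := ly_le_of_cent (L.norm12 hab') (L.norm21 hab') hZ
    have h2 := ly_le_of_cent (L.norm21 hab') (L.norm12 hab') hZ'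
    exact le_antisymm (ly_le_ly_of_le (L.norm12 hab') (L.norm21 hab') h1)
      (ly_le_ly_of_le (L.norm21 hab') (L.norm12 hab') h2)
  obtain ⟨x, hx⟩ := L.exists_in a
  obtain ⟨y, hy, hyx, -⟩ := L.exists_in_ne2 a x x
  obtain ⟨z, hz, hzx, hzy⟩ := L.exists_in_ne2 a x y
  obtain ⟨q, hq, hq1, -⟩ := (hB a).1 x hx y hy z hz hyx.symm hzy.symm hzx.symm
  rw [hbot, Subgroup.mem_bot] at hq
  rw [hq, one_smul] at hq1
  exact hyx hq1.symm

end Loc

end Cfsg.Agent.Lib.Perm.Knapp
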