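import Mathlib
import Cfsg.Agent.Lib.Perm.Knapp.Cases
import Cfsg.Agent.Lib.Perm.Knapp.Abs

/-!
# The structure of the point stabilizer in the unfaithful case
-/

set_option autoImplicit false
set_option linter.unusedSectionVars false
set_option linter.style.haveILetI false

namespace Cfsg.Agent.Lib.Perm.Knapp

open Subgroup Equiv Cfsg Cfsg.Agent.Lib.Components.BenderPair MulAction

variable {G Ω : Type*} [Group G] [Finite G] [MulAction G Ω] [FaithfulSMul G Ω] [Finite Ω]

theorem half_fact {d : ℕ} (hd : 6 ≤ d) : d.factorial / 2 = d * ((d - 1).factorial / 2) := by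
  have h1 : d.factorial = d * (d - 1).factorial := (Nat.mul_factorial_pred (by omega)).symm
  have h2 : 2 ∣ (d - 1).factorial := Nat.dvd_factorial (by norm_num) (by omega)
  obtain ⟨t, ht⟩ := h2
  rw [h1, ht]
  have : d * (2 * t) = 2 * (d * t) := by ring
  rw [this, Nat.mul_div_cancel_left _ (by norm_num), Nat.mul_div_cancel_left _ (by norm_num)]

/-- Orbit-stabilizer in subgroup form. -/
theorem card_inf_stab_mul {Q : Subgroup G} {Λ : Set Ω} {x : Ω} (hp : Pres Q Λ) (hx : x ∈ Λ)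
    (htr : ∀ y ∈ Λ, ∃ q ∈ Q, q • x = y) :
    Nat.card ↥(Q ⊓ stabilizer G x) * Nat.card ↥Λ = Nat.card Q := by
  have h1 := (stabilizer ↥Q x).card_mul_index
  rw [MulAction.index_stabilizer] at h1
  rw [← h1, Nat.card_coe_set_eq]
  congr 1
  · apply Nat.card_congr
    refine ⟨fun y => ⟨⟨y, (mem_inf.mp y.2).1⟩, (mem_inf.mp y.2).2⟩,
      fun y => ⟨y.1, mem_inf.mpr ⟨y.1.2, y.2⟩⟩, fun _ => rfl, fun _ => rfl⟩
  · congr 1
    ext y
    constructor
    · intro hy
      obtain ⟨q, hq, hqx⟩ := htr y hy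
      exact ⟨⟨q, hq⟩, hqx⟩
    · rintro ⟨q, rfl⟩
      exact hp q q.2 x hx

section

variable {R : Ω → Ω → Prop} {d : ℕ} (L : Loc G R d) (hprim : IsPreprimitive G Ω)
  (hKK : ∀ v, Kr G (rev R) v = Kr G R v) (hne : ∀ v, Kr G R v ≠ ⊥)

include L hprim hKK hne

theorem bot_arc {u v : Ω} (h : R u v) : Kr G R u ⊓ Kr G R v = ⊥ := L.caseA hprim hKK hne h

omit hprim hne in
theorem normKK {u v : Ω} (h : R u v) : Kr G R u ≤ normalizer ((Kr G R v : Subgroup G) : Set G) := by
  have := L.norm12 h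
  rwa [hKK] at this

omit hprim hne in
theorem normKK' {u v : Ω} (h : R u v) : Kr G R v ≤ normalizer ((Kr G R u : Subgroup G) : Set G) := by
  have := L.norm21 h
  rwa [hKK] at this

theorem comm_arc {u v : Ω} (h : R u v) {x y : G} (hx : x ∈ Kr G R u) (hy : y ∈ Kr G R v) :
    x * y = y * x := by
  have h1 : x * y * x⁻¹ * y⁻¹ ∈ Kr G R v :=
    mul_mem (Res.conj_mem' (normKK L hKK h hx) hy) (inv_mem hy)
  have h2 : x * y * x⁻¹ * y⁻¹ ∈ Kr G R u := by
    have e : x * y * x⁻¹ * y⁻¹ = x * (y * x⁻¹ * y⁻¹) := by group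
    rw [e]
    exact mul_mem hx (Res.conj_mem' (normKK' L hKK h hy) (inv_mem hx))
  have h3 : x * y * x⁻¹ * y⁻¹ ∈ Kr G R u ⊓ Kr G R v := mem_inf.mpr ⟨h2, h1⟩
  rw [bot_arc L hprim hKK hne h, Subgroup.mem_bot] at h3
  rw [mul_inv_eq_one, mul_inv_eq_iff_eq_mul] at h3
  exact h3

end

/-- The centralizer in the stabilizer of the kernel. -/
def Yy (G : Type*) [Group G] {Ω : Type*} [MulAction G Ω] (R : Ω → Ω → Prop) (a : Ω) : Subgroup G :=
  stabilizer G a ⊓ centralizer ((Kr G R a : Subgroup G) : Set G)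

section

variable {R : Ω → Ω → Prop} {d : ℕ} (L : Loc G R d) (hprim : IsPreprimitive G Ω)
  (hKK : ∀ v, Kr G (rev R) v = Kr G R v) (hne : ∀ v, Kr G R v ≠ ⊥)

include L hprim hKK hne

theorem Y_inf (a : Ω) : Yy G R a ⊓ Kr G R a = ⊥ := by
  rw [eq_bot_iff]
  intro x hx
  obtain ⟨h1, h2⟩ := mem_inf.mp hx
  rw [Subgroup.mem_bot]
  exact eq_one_of_central (L.fi_bot hprim a) h2 (mem_inf.mp h1).2

theorem Y_norm (a : Ω) : stabilizer G a ≤ normalizer ((Yy G R a : Subgroup G) : Set G) := by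
  intro t ht
  apply Res.mem_norm
  intro z hz
  obtain ⟨h1, h2⟩ := mem_inf.mp hz
  refine mem_inf.mpr ⟨mul_mem (mul_mem ht h1) (inv_mem ht), ?_⟩
  rw [mem_centralizer_iff]
  intro y hy
  have hy' : t⁻¹ * y * t ∈ Kr G R a := by
    have := Res.conj_mem' (stab_le_norm L.equi a (inv_mem ht)) hy
    simpa using this
  have h3 := mem_centralizer_iff.mp h2 _ hy'
  have e : y = t * (t⁻¹ * y * t) * t⁻¹ := by group
  rw [e]
  calc t * (t⁻¹ * y * t) * t⁻¹ * (t * z * t⁻¹) = t * ((t⁻¹ * y * t) * z) * t⁻¹ := by group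
    _ = t * (z * (t⁻¹ * y * t)) * t⁻¹ := by rw [h3]
    _ = _ := by group

theorem K_le_Y {x a : Ω} (h : R x a) : Kr G R x ≤ Yy G R a := by
  intro k hk
  refine mem_inf.mpr ⟨Kr_le_of h hk, ?_⟩
  rw [mem_centralizer_iff]
  intro y hy
  exact (comm_arc L hprim hKK hne h hk hy).symm

theorem Y_ne_bot (a : Ω) : Yy G R a ≠ ⊥ := by
  obtain ⟨x, hx⟩ := L.exists_in a
  intro h
  apply hne x
  rw [eq_bot_iff, ← h]
  exact K_le_Y L hprim hKK hne hx

theorem Y_out (a : Ω) : Form3 (Yy G R a) {w | R a w} := by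
  have h6 := L.d6
  rcases dich (L.pres_out a) (L.altOut a) (by rw [L.cardOut]; omega) inf_le_left
    (Y_norm L hprim hKK hne a) with h | h
  · exfalso
    apply Y_ne_bot L hprim hKK hne a
    have h3 : Yy G R a ≤ Kr G R a := fun z hz => ⟨(mem_inf.mp hz).1, fun w hw => h z hz w hw⟩
    have := Y_inf L hprim hKK hne a
    rwa [inf_eq_left.mpr h3] at this
  · exact h

theorem Y_in (a : Ω) : Form3 (Yy G R a) {u | R u a} := by
  have h6 := L.d6
  rcases dich (L.pres_in a) (L.altIn a) (by rw [L.cardIn]; omega) inf_le_left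
    (Y_norm L hprim hKK hne a) with h | h
  · exfalso
    apply Y_ne_bot L hprim hKK hne a
    have h3 : Yy G R a ≤ Kr G R a := by
      rw [← hKK]
      exact fun z hz => ⟨(mem_inf.mp hz).1, fun w hw => h z hz w hw⟩
    have := Y_inf L hprim hKK hne a
    rwa [inf_eq_left.mpr h3] at this
  · exact h

theorem Kb_le {a b : Ω} (hab : R a b) : Kr G R b ≤ stabilizer G a ⊓ stabilizer G b := by
  have := L.Kr_le_T' hab
  rwa [hKK] at this

theorem Kb_form {a b : Ω} (hab : R a b) : Form3 (Kr G R b) ({w | R a w} \ {b}) := by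
  have hn : stabilizer G a ⊓ stabilizer G b ≤ normalizer ((Kr G R b : Subgroup G) : Set G) := by
    have := L.norm_T' a b
    rwa [hKK] at this
  rcases L.dich_T hab (Kb_le L hprim hKK hne hab) hn with h | h
  · exfalso
    apply hne b
    have := bot_arc L hprim hKK hne hab
    rwa [inf_eq_right.mpr h] at this
  · exact h

theorem Kb_pres {a b : Ω} (hab : R a b) : Pres (Kr G R b) ({w | R a w} \ {b}) :=
  (L.pres_T a b).mono (Kb_le L hprim hKK hne hab)

theorem Kb_inj {a b : Ω} (hab : R a b) :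
    Function.Injective (act (Kr G R b) ({w | R a w} \ {b}) (Kb_pres L hprim hKK hne hab)) := by
  rw [injective_iff_map_eq_one]
  rintro ⟨z, hz⟩ hz1
  have h3 : z ∈ Kr G R a ⊓ Kr G R b := by
    refine mem_inf.mpr ⟨L.fix_mem hab (Kb_le L hprim hKK hne hab hz) (fun w hw => ?_), hz⟩
    have := congrArg (fun σ : Perm ↥({w | R a w} \ {b} : Set Ω) => (σ ⟨w, hw⟩).1) hz1
    exact this
  rw [bot_arc L hprim hKK hne hab, Subgroup.mem_bot] at h3
  exact Subtype.ext h3

theorem K_cases (v : Ω) :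
    (Nat.card (Kr G R v) = (d - 1).factorial / 2 ∧
        Nonempty (Kr G R v ≃* alternatingGroup (Fin (d - 1)))) ∨
      (Nat.card (Kr G R v) = (d - 1).factorial ∧ Nonempty (Kr G R v ≃* Perm (Fin (d - 1)))) := by
  classical
  obtain ⟨a, hab⟩ := L.exists_in v
  have h6 := L.d6
  set Λ : Set Ω := {w | R a w} \ {v} with hΛ
  haveI := Fintype.ofFinite ↥Λ
  exact iso_of_range _ (Kb_inj L hprim hKK hne hab)
    (alt_le_range _ (Kb_form L hprim hKK hne hab)) (L.card_T hab) (by omega)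

theorem Y_pres (a : Ω) : Pres (Yy G R a) {w | R a w} := (L.pres_out a).mono inf_le_left

theorem Y_inj (a : Ω) : Function.Injective (act (Yy G R a) {w | R a w} (Y_pres L hprim hKK hne a)) := by
  rw [injective_iff_map_eq_one]
  rintro ⟨z, hz⟩ hz1
  have h3 : z ∈ Yy G R a ⊓ Kr G R a := by
    refine mem_inf.mpr ⟨hz, (mem_inf.mp hz).1, fun w hw => ?_⟩
    have := congrArg (fun σ : Perm ↥({w | R a w} : Set Ω) => (σ ⟨w, hw⟩).1) hz1
    exact this
  rw [Y_inf L hprim hKK hne a, Subgroup.mem_bot] at h3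
  exact Subtype.ext h3

theorem Y_cases (a : Ω) :
    (Nat.card (Yy G R a) = d.factorial / 2 ∧ Nonempty (Yy G R a ≃* alternatingGroup (Fin d))) ∨
      (Nat.card (Yy G R a) = d.factorial ∧ Nonempty (Yy G R a ≃* Perm (Fin d))) := by
  classical
  have h6 := L.d6
  haveI := Fintype.ofFinite ↥({w | R a w} : Set Ω)
  exact iso_of_range _ (Y_inj L hprim hKK hne a)
    (alt_le_range _ (Y_out L hprim hKK hne a)) (L.cardOut a) (by omega)

theorem card_K_eq (u v : Ω) : Nat.card (Kr G R u) = Nat.card (Kr G R v) := by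
  obtain ⟨h, rfl⟩ := L.exists_smul u v
  rw [L.equi h u]
  exact Nat.card_congr ((Kr G R u).equivMapOfInjective _ (MulAut.conj h).injective).toEquiv

theorem card_YK_le (a : Ω) : Nat.card (Yy G R a) * Nat.card (Kr G R a) ≤ Nat.card (stabilizer G a) := by
  have h1 := Res.card_sup_inf (A := Yy G R a) (N := Kr G R a)
    ((inf_le_left : Yy G R a ≤ _).trans (stab_le_norm L.equi a))
  rw [Y_inf L hprim hKK hne a] at h1
  simp only [Subgroup.card_bot, mul_one] at h1
  rw [← h1]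
  exact Subgroup.card_le_of_le (sup_le inf_le_left (Kr_le R a))

theorem H_prod (a : Ω)
    (hc : Nat.card (stabilizer G a) = Nat.card (Yy G R a) * Nat.card (Kr G R a)) :
    Nonempty (stabilizer G a ≃* Yy G R a × Kr G R a) :=
  prod_iso inf_le_left (Kr_le R a)
    (fun y hy k hk => (mem_centralizer_iff.mp (mem_inf.mp hy).2 k hk).symm)
    (Y_inf L hprim hKK hne a) hc

/-- The alternating case. -/
theorem core_alt (a : Ω)
    (hH : Nat.card (stabilizer G a) = Nat.card (Kr G R a) * (d.factorial / 2)) :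
    Nonempty (stabilizer G a ≃* alternatingGroup (Fin d) × alternatingGroup (Fin (d - 1))) := by
  have h6 := L.d6
  obtain ⟨b, hab⟩ := L.exists_out a
  have hKpos : 0 < Nat.card (Kr G R a) := Nat.card_pos
  have hfpos : 0 < d.factorial := Nat.factorial_pos _
  have hf2 : 2 ∣ d.factorial := Nat.dvd_factorial (by norm_num) (by omega)
  have hYcard : Nat.card (Yy G R a) = d.factorial / 2 ∧ Nonempty (Yy G R a ≃* alternatingGroup (Fin d)) := by
    rcases Y_cases L hprim hKK hne a with h | h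
    · exact h
    · exfalso
      have h1 := card_YK_le L hprim hKK hne a
      rw [h.1, hH] at h1
      have h1' : d.factorial * Nat.card (Kr G R a) ≤ (d.factorial / 2) * Nat.card (Kr G R a) := by
        rw [mul_comm (d.factorial / 2)]
        exact h1
      have h2 := Nat.le_of_mul_le_mul_right h1' hKpos
      omega
  obtain ⟨eY⟩ := hYcard.2
  have hKcases : Nonempty (Kr G R a ≃* alternatingGroup (Fin (d - 1))) := by
    rcases K_cases L hprim hKK hne a with h | h
    · exact h.2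
    · exfalso
      -- count the stabilizer of `b`
      have h1 : Nat.card ↥(stabilizer G a ⊓ stabilizer G b) * Nat.card ↥({w | R a w} : Set Ω) =
          Nat.card (stabilizer G a) :=
        card_inf_stab_mul (L.pres_out a) hab (fun y hy => by
          have h3 : 3 ≤ Nat.card ↥({w | R a w} : Set Ω) := by rw [L.cardOut]; omega
          exact (L.altOut a).trans h3 hab hy)
      rw [L.cardOut, hH] at h1
      have h2 := Res.card_sup_inf (A := Kr G R a) (N := Kr G R b) (normKK L hKK hab)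
      rw [bot_arc L hprim hKK hne hab] at h2
      simp only [Subgroup.card_bot, mul_one] at h2
      have h3 : Nat.card ↥(Kr G R a ⊔ Kr G R b) ≤ Nat.card ↥(stabilizer G a ⊓ stabilizer G b) :=
        Subgroup.card_le_of_le (sup_le (L.Kr_le_T hab) (Kb_le L hprim hKK hne hab))
      rw [h2, card_K_eq L hprim hKK hne b a, h.1] at h3
      have h4 : (d - 1).factorial * (d - 1).factorial * d ≤ (d - 1).factorial * (d.factorial / 2) := by
        have h5 := Nat.mul_le_mul_right d h3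
        rw [h1, h.1] at h5
        exact h5
      have h7 : 0 < (d - 1).factorial := Nat.factorial_pos _
      have h8 : (d - 1).factorial * d ≤ d.factorial / 2 := by
        rw [mul_assoc] at h4
        exact Nat.le_of_mul_le_mul_left h4 h7
      have h9 : d.factorial = d * (d - 1).factorial := (Nat.mul_factorial_pred (by omega)).symm
      rw [mul_comm, ← h9] at h8
      omega
  obtain ⟨eK⟩ := hKcases
  obtain ⟨e⟩ := H_prod L hprim hKK hne a (by rw [hH, hYcard.1, mul_comm])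
  exact ⟨e.trans (MulEquiv.prodCongr eY eK)⟩

/-- The equal-sign case. -/
theorem E_case (a : Ω)
    (hH : Nat.card (stabilizer G a) = Nat.card (Kr G R a) * d.factorial)
    (hY : Nat.card (Yy G R a) = d.factorial / 2) :
    Nonempty (stabilizer G a ≃* Esign d (d - 1)) := by
  classical
  have h6 := L.d6
  obtain ⟨x, hx⟩ := L.exists_in a
  have hYx : Yy G R a ⊓ stabilizer G x = Kr G R x := by
    symm
    apply Subgroup.eq_of_le_of_card_ge (le_inf (K_le_Y L hprim hKK hne hx) (Kr_le R x))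
    have h1 : Nat.card ↥(Yy G R a ⊓ stabilizer G x) * Nat.card ↥({u | R u a} : Set Ω) =
        Nat.card (Yy G R a) :=
      card_inf_stab_mul ((L.pres_in a).mono inf_le_left) hx (fun y hy => by
        have h3 : 3 ≤ Nat.card ↥({u | R u a} : Set Ω) := by rw [L.cardIn]; omega
        exact (Y_in L hprim hKK hne a).trans h3 hx hy)
    rw [L.cardIn, hY, half_fact h6, mul_comm] at h1
    have h2 : Nat.card ↥(Yy G R a ⊓ stabilizer G x) = (d - 1).factorial / 2 :=
      Nat.eq_of_mul_eq_mul_left (by omega) h1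
    rw [h2]
    rcases K_cases L hprim hKK hne x with h | h
    · exact h.1.ge
    · rw [h.1]
      exact Nat.div_le_self _ _
  have hKxc : Nat.card (Kr G R x) = (d - 1).factorial / 2 := by
    rw [← hYx]
    have h1 : Nat.card ↥(Yy G R a ⊓ stabilizer G x) * Nat.card ↥({u | R u a} : Set Ω) =
        Nat.card (Yy G R a) :=
      card_inf_stab_mul ((L.pres_in a).mono inf_le_left) hx (fun y hy => by
        have h3 : 3 ≤ Nat.card ↥({u | R u a} : Set Ω) := by rw [L.cardIn]; omega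
        exact (Y_in L hprim hKK hne a).trans h3 hx hy)
    rw [L.cardIn, hY, half_fact h6, mul_comm] at h1
    exact Nat.eq_of_mul_eq_mul_left (by omega) h1
  have hKac : Nat.card (Kr G R a) = (d - 1).factorial / 2 := by
    rw [card_K_eq L hprim hKK hne a x, hKxc]
  -- the two actions
  set T' : Subgroup G := stabilizer G x ⊓ stabilizer G a with hT'
  set Λ2 : Set Ω := {w | R x w} \ {a} with hΛ2
  set Λ1 : Set Ω := {w | R a w} with hΛ1
  haveI := Fintype.ofFinite ↥Λ1
  haveI := Fintype.ofFinite ↥Λ2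
  have hp2 : Pres T' Λ2 := L.pres_T x a
  have hp1 : Pres (stabilizer G a) Λ1 := L.pres_out a
  have hT'H : T' ≤ stabilizer G a := inf_le_right
  let τ := act T' Λ2 hp2
  have hfac : ∀ h ∈ stabilizer G a, ∃ y ∈ Yy G R a, y⁻¹ * h ∈ T' := by
    intro h hh
    have hhx : h • x ∈ ({u | R u a} : Set Ω) := L.pres_in a h hh x hx
    have h3 : 3 ≤ Nat.card ↥({u | R u a} : Set Ω) := by rw [L.cardIn]; omega
    obtain ⟨y, hy, hyx⟩ := (Y_in L hprim hKK hne a).trans h3 hx hhx
    refine ⟨y, hy, mem_inf.mpr ⟨?_, mul_mem (inv_mem (mem_inf.mp hy).1) hh⟩⟩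
    rw [MulAction.mem_stabilizer_iff, mul_smul, inv_smul_eq_iff, hyx]
  have hKer : ∀ t : ↥T', (t : G) ∈ Yy G R a → τ t = 1 := by
    intro t ht
    have h3 : (t : G) ∈ Kr G R x := by
      rw [← hYx]
      exact mem_inf.mpr ⟨ht, (mem_inf.mp t.2).1⟩
    apply Equiv.ext
    intro w
    apply Subtype.ext
    exact h3.2 w w.2.1
  obtain ⟨ψ₂, hψ1, hψ2⟩ := exists_extend τ (Y_norm L hprim hKK hne a) inf_le_left
    (inf_le_right : T' ≤ stabilizer G a) hfac hKer
  let ψ₁ := act (stabilizer G a) Λ1 hp1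
  -- kernel of `ψ₂`
  have hkerY : ∀ h : ↥(stabilizer G a), ψ₂ h = 1 → (h : G) ∈ Yy G R a := by
    intro h hh
    obtain ⟨y, hy, ht⟩ := hfac h h.2
    have e : h = ⟨y, (mem_inf.mp hy).1⟩ * ⟨y⁻¹ * h, hT'H ht⟩ := by
      apply Subtype.ext
      simp
    have h2 : ψ₂ ⟨y⁻¹ * h, hT'H ht⟩ = 1 := by
      have h3 := hh
      rw [e, map_mul, hψ2 y hy, one_mul] at h3
      exact h3
    have h4 : τ ⟨y⁻¹ * h, ht⟩ = 1 := by
      rw [← hψ1 ⟨y⁻¹ * h, ht⟩]
      exact h2
    have h5 : y⁻¹ * (h : G) ∈ Kr G R x := by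
      refine L.fix_mem hx ht (fun w hw => ?_)
      have := congrArg (fun σ : Perm ↥Λ2 => (σ ⟨w, hw⟩).1) h4
      exact this
    have h6' := K_le_Y L hprim hKK hne hx h5
    have e2 : (h : G) = y * (y⁻¹ * h) := by group
    rw [e2]
    exact mul_mem hy h6'
  -- ranges on `Y`
  have hrY : (act (Yy G R a) Λ1 (Y_pres L hprim hKK hne a)).range = alternatingGroup ↥Λ1 := by
    symm
    apply Subgroup.eq_of_le_of_card_ge (alt_le_range _ (Y_out L hprim hKK hne a))
    rw [card_alt_set Λ1 (by rw [L.cardOut]; omega), L.cardOut, ← hY]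
    exact Nat.card_le_card_of_surjective _ ((act (Yy G R a) Λ1 _).rangeRestrict_surjective)
  have hψ1Y : ∀ y (hy : y ∈ Yy G R a), ψ₁ ⟨y, (mem_inf.mp hy).1⟩ =
      act (Yy G R a) Λ1 (Y_pres L hprim hKK hne a) ⟨y, hy⟩ := by
    intro y hy
    ext w
    rfl
  -- ranges on `K a`
  have hrK : (act (Kr G R a) Λ2 (Kb_pres L hprim hKK hne hx)).range = alternatingGroup ↥Λ2 := by
    symm
    apply Subgroup.eq_of_le_of_card_ge (alt_le_range _ (Kb_form L hprim hKK hne hx))
    rw [card_alt_set Λ2 (by rw [L.card_T hx]; omega), L.card_T hx, ← hKac]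
    exact Nat.card_le_card_of_surjective _ ((act (Kr G R a) Λ2 _).rangeRestrict_surjective)
  have hKT : Kr G R a ≤ T' := by
    have := Kb_le L hprim hKK hne hx
    exact this
  have hψ2K : ∀ k (hk : k ∈ Kr G R a), ψ₂ ⟨k, (Kr_le R a) hk⟩ =
      act (Kr G R a) Λ2 (Kb_pres L hprim hKK hne hx) ⟨k, hk⟩ := by
    intro k hk
    have h1 := hψ1 ⟨k, hKT hk⟩
    refine h1.trans ?_
    ext w
    rfl
  have hψ1K : ∀ h : ↥(stabilizer G a), ψ₁ h = 1 → (h : G) ∈ Kr G R a := by
    intro h hh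
    refine ⟨h.2, fun w hw => ?_⟩
    have := congrArg (fun σ : Perm ↥Λ1 => (σ ⟨w, hw⟩).1) hh
    exact this
  have hψ1K' : ∀ k (hk : k ∈ Kr G R a), ψ₁ ⟨k, (Kr_le R a) hk⟩ = 1 := by
    intro k hk
    apply Equiv.ext
    intro w
    apply Subtype.ext
    exact hk.2 w w.2
  refine iso_Esign (n := d) (m := d - 1) ψ₁ ψ₂ (L.cardOut a) (L.card_T hx) (by omega) ?_ ?_ ?_ ?_ ?_ ?_
  · intro h hh
    have h1 := hkerY h hh
    have h2 := hψ1Y h h1
    have h3 : act (Yy G R a) Λ1 (Y_pres L hprim hKK hne a) ⟨h, h1⟩ ∈ alternatingGroup ↥Λ1 := by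
      rw [← hrY]
      exact ⟨_, rfl⟩
    rw [← h2] at h3
    exact Equiv.Perm.mem_alternatingGroup.mp h3
  · intro σ hσ
    rw [← hrY] at hσ
    obtain ⟨⟨y, hy⟩, rfl⟩ := hσ
    exact ⟨⟨y, (mem_inf.mp hy).1⟩, hψ2 y hy, hψ1Y y hy⟩
  · intro h hh
    have h1 := hψ1K h hh
    have h2 := hψ2K h h1
    have h3 : act (Kr G R a) Λ2 (Kb_pres L hprim hKK hne hx) ⟨h, h1⟩ ∈ alternatingGroup ↥Λ2 := by
      rw [← hrK]
      exact ⟨_, rfl⟩
    rw [← h2] at h3
    exact Equiv.Perm.mem_alternatingGroup.mp h3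
  · intro σ hσ
    rw [← hrK] at hσ
    obtain ⟨⟨k, hk⟩, rfl⟩ := hσ
    exact ⟨⟨k, (Kr_le R a) hk⟩, hψ1K' k hk, hψ2K k hk⟩
  · intro h h1 h2
    have h3 := hψ1K h h1
    have h4 := hkerY h h2
    have h5 : (h : G) ∈ Yy G R a ⊓ Kr G R a := mem_inf.mpr ⟨h4, h3⟩
    rw [Y_inf L hprim hKK hne a, Subgroup.mem_bot] at h5
    exact Subtype.ext h5
  · rw [hH, hKac]
    have h2 : 2 ∣ (d - 1).factorial := Nat.dvd_factorial (by norm_num) (by omega)
    obtain ⟨t, ht⟩ := h2
    rw [ht, Nat.mul_div_cancel_left _ (by norm_num)]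
    ring

/-- The symmetric case. -/
theorem core_sym (a : Ω)
    (hH : Nat.card (stabilizer G a) = Nat.card (Kr G R a) * d.factorial) :
    Nonempty (stabilizer G a ≃* Perm (Fin d) × Perm (Fin (d - 1))) ∨
      Nonempty (stabilizer G a ≃* Perm (Fin d) × alternatingGroup (Fin (d - 1))) ∨
      Nonempty (stabilizer G a ≃* Esign d (d - 1)) := by
  rcases Y_cases L hprim hKK hne a with h | h
  · exact Or.inr (Or.inr (E_case L hprim hKK hne a hH h.1))
  · obtain ⟨eY⟩ := h.2
    obtain ⟨e⟩ := H_prod L hprim hKK hne a (by rw [hH, h.1, mul_comm])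
    rcases K_cases L hprim hKK hne a with hk | hk
    · obtain ⟨eK⟩ := hk.2
      exact Or.inr (Or.inl ⟨e.trans (MulEquiv.prodCongr eY eK)⟩)
    · obtain ⟨eK⟩ := hk.2
      exact Or.inl ⟨e.trans (MulEquiv.prodCongr eY eK)⟩

end

end Cfsg.Agent.Lib.Perm.Knapp
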